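import Groth.Agent.Pi1.H384.SplitCover
import Groth.Agent.Pi1A.FEtAffine
import Groth.Prelude.Def_Pi1

/-!
# Base change of split covers
-/

set_option autoImplicit false

universe u

open CategoryTheory CategoryTheory.Limits AlgebraicGeometry
open Groth.Agent.Pi1A.FEtAffine Groth.Agent.Pi1.H384.SplitCover

namespace Groth.Agent.Pi1.H384.SplitBasic

/-- Trivial covers are pulled back. -/
theorem isPullback_trivial {Y S : Scheme.{u}} (g : Y ⟶ S) (ι : Type u) [Finite ι] :
    IsPullback (Sigma.desc (fun _ : ι => 𝟙 Y)) (Sigma.desc (fun i : ι => g ≫ Sigma.ι (fun _ : ι => S) i))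
      g (Sigma.desc (fun _ : ι => 𝟙 S)) := by
  have H := IsUniversalColimit.isPullback_of_isColimit_left
    (X := fun _ : ι ↦ S) (a := Cofan.mk _ (Sigma.ι (fun _ : ι => S)))
    (FinitaryPreExtensive.isUniversal_finiteCoproducts (coproductIsCoproduct _))
    (fun _ ↦ 𝟙 S) (Sigma.desc (fun _ : ι => 𝟙 S)) g (fun _ => 𝟙 Y) (fun _ => g)
    (fun _ ↦ IsPullback.of_horiz_isIso ⟨by simp⟩) (coproductIsCoproduct _)
    (fun i => by simp [Cofan.inj])
  have e1 : Cofan.IsColimit.desc (coproductIsCoproduct fun _ : ι => Y) (fun _ => 𝟙 Y) =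
      Sigma.desc (fun _ : ι => 𝟙 Y) := by
    refine Sigma.hom_ext _ _ fun i => ?_
    rw [Sigma.ι_desc]
    exact Cofan.IsColimit.fac (coproductIsCoproduct fun _ : ι => Y) (fun _ => 𝟙 Y) i
  have e2 : Cofan.IsColimit.desc (coproductIsCoproduct fun _ : ι => Y)
      (fun i => g ≫ (Cofan.mk (∐ fun _ : ι => S) (Sigma.ι fun _ : ι => S)).inj i) =
      Sigma.desc (fun i : ι => g ≫ Sigma.ι (fun _ : ι => S) i) := by
    refine Sigma.hom_ext _ _ fun i => ?_
    rw [Sigma.ι_desc]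
    exact Cofan.IsColimit.fac (coproductIsCoproduct fun _ : ι => Y) _ i
  rw [e1, e2] at H
  exact H

/-- The base change of a trivial cover. -/
noncomputable def restrictTrivial {X Y : Scheme.{u}} (f : X ⟶ Y) (ι : Type u) [Finite ι] :
    (FEt.restrict f).obj (trivialObj Y ι) ≅ trivialObj X ι :=
  isoMk (T := (FEt.restrict f).obj (trivialObj Y ι)) (T' := trivialObj X ι)
    (isPullback_trivial f ι).flip.isoPullback.symm (by
      rw [Iso.symm_hom]
      exact (isPullback_trivial f ι).flip.isoPullback_inv_snd)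

/-- Trivial covers are split. -/
theorem isSplit_trivialObj (X : Scheme.{u}) (ι : Type u) [h : Finite ι] :
    Pi1.IsSplit (trivialObj X ι) := by
  refine ⟨ι, h, Iso.refl _, fun i => ?_⟩
  change Sigma.ι (fun _ : ι => X) i ≫ 𝟙 _ ≫ Sigma.desc (fun _ : ι => 𝟙 X) = 𝟙 X
  rw [Category.id_comp, Sigma.ι_desc]

/-- Split covers are isomorphic to trivial ones. -/
theorem exists_iso_trivialObj {X : Scheme.{u}} {T : FEt.Cat X} (h : Pi1.IsSplit T) :
    ∃ (ι : Type u) (_ : Finite ι), Nonempty (T ≅ trivialObj X ι) := by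
  obtain ⟨ι, hι, e, he⟩ := h
  refine ⟨ι, hι, ⟨isoMk (T := T) (T' := trivialObj X ι) e ?_⟩⟩
  have h1 : e.inv ≫ T.hom = Sigma.desc (fun _ : ι => 𝟙 X) := by
    apply Sigma.hom_ext
    intro i
    rw [he i, Sigma.ι_desc]
  change e.hom ≫ Sigma.desc (fun _ : ι => 𝟙 X) = T.hom
  rw [← h1, Iso.hom_inv_id_assoc]

/-- Being split is invariant under isomorphisms. -/
theorem isSplit_of_iso {X : Scheme.{u}} {T T' : FEt.Cat X} (e : T ≅ T') (h : Pi1.IsSplit T) :
    Pi1.IsSplit T' := by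
  obtain ⟨ι, hι, e', he'⟩ := h
  have h1 : IsIso e.inv.left := inferInstanceAs (IsIso ((MorphismProperty.Over.forget FEt.prop ⊤ X ⋙
    Over.forget X).map e.inv))
  have h2 : e.inv.left ≫ T.hom = T'.hom := hom_w e.inv
  refine ⟨ι, hι, asIso e.inv.left ≪≫ e', fun i => ?_⟩
  rw [Iso.trans_inv, Category.assoc, asIso_inv, ← h2]
  have h3 : inv e.inv.left ≫ e.inv.left ≫ T.hom = T.hom := by
    rw [IsIso.inv_hom_id_assoc]
  exact (congrArg (fun t => Sigma.ι (fun _ : ι => X) i ≫ e'.inv ≫ t) h3).trans (he' i)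

/-- Base changes of split covers are split. -/
theorem isSplit_restrict {X Y : Scheme.{u}} (f : X ⟶ Y) {T : FEt.Cat Y} (h : Pi1.IsSplit T) :
    Pi1.IsSplit ((FEt.restrict f).obj T) := by
  obtain ⟨ι, hι, ⟨e⟩⟩ := exists_iso_trivialObj h
  exact isSplit_of_iso ((FEt.restrict f).mapIso e ≪≫ restrictTrivial f ι).symm
    (isSplit_trivialObj X ι)

end Groth.Agent.Pi1.H384.SplitBasic
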