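import Groth.Agent.Pi1.H384.StrictEquiv
import Groth.Agent.Pi1.H384.StableClopen
import Groth.Agent.Pi1A.ConnFibres
import Groth.Agent.Hensel.Lazard
import Mathlib.AlgebraicGeometry.Stalk

/-!
# Families of finite étale covers with proper fibres are constant

Let `P` be proper over an algebraically closed field `k`, `B` a connected locally Noetherian
`k`-scheme, `Z` a finite étale cover of `P ×_k B`. If the restriction of `Z` to one geometric fibre
of `P ×_k B → B` is the base change of a finite étale cover `A` of `P`, then this holds for all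
geometric fibres.
-/

set_option autoImplicit false

universe u

open CategoryTheory CategoryTheory.Limits AlgebraicGeometry
open Groth.Agent.Pi1A.FEtAffine Groth.Agent.Pi1.H384.StrictEquiv

namespace Groth.Agent.Pi1.H384.Constancy

section bm

variable {S P : Scheme.{u}} (p : P ⟶ S)

/-- Base change map `P ×_S T' ⟶ P ×_S T`. -/
noncomputable def bm {T T' : Scheme.{u}} {t : T ⟶ S} {t' : T' ⟶ S} (j : T' ⟶ T) (h : j ≫ t = t') :
    pullback p t' ⟶ pullback p t :=
  pullback.lift (pullback.fst p t') (pullback.snd p t' ≫ j)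
    (by rw [Category.assoc, h, pullback.condition])

variable {T T' T'' : Scheme.{u}} {t : T ⟶ S} {t' : T' ⟶ S} {t'' : T'' ⟶ S}

@[reassoc (attr := simp)]
theorem bm_fst (j : T' ⟶ T) (h : j ≫ t = t') : bm p j h ≫ pullback.fst p t = pullback.fst p t' :=
  pullback.lift_fst _ _ _

@[reassoc (attr := simp)]
theorem bm_snd (j : T' ⟶ T) (h : j ≫ t = t') :
    bm p j h ≫ pullback.snd p t = pullback.snd p t' ≫ j :=
  pullback.lift_snd _ _ _

theorem isPullback_bm (j : T' ⟶ T) (h : j ≫ t = t') :
    IsPullback (bm p j h) (pullback.snd p t') (pullback.snd p t) j := by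
  refine IsPullback.of_right (h₁₂ := pullback.fst p t) (v₁₃ := p) (h₂₂ := t) ?_
    (bm_snd p j h) (IsPullback.of_hasPullback p t)
  rw [bm_fst, h]
  exact IsPullback.of_hasPullback p t'

theorem bm_bm (j : T' ⟶ T) (h : j ≫ t = t') (j' : T'' ⟶ T') (h' : j' ≫ t' = t'')
    (j'' : T'' ⟶ T) (hj : j' ≫ j = j'') (h'' : j'' ≫ t = t'') :
    bm p j' h' ≫ bm p j h = bm p j'' h'' := by
  apply pullback.hom_ext
  · rw [Category.assoc, bm_fst, bm_fst, bm_fst]
  · rw [Category.assoc, bm_snd, bm_snd_assoc, bm_snd, hj]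

end bm

section Good

variable {S P B : Scheme.{u}} (p : P ⟶ S) (q : B ⟶ S) (Z : FEt.Cat (pullback p q)) (A : FEt.Cat P)

/-- The base change of `Z` along `j : T ⟶ B` is isomorphic to the pullback of `A`. -/
def Good {T : Scheme.{u}} (j : T ⟶ B) : Prop :=
  Nonempty ((FEt.restrict (bm p (t := q) j rfl)).obj Z ≅
    (FEt.restrict (pullback.fst p (j ≫ q))).obj A)

variable {p q Z A}

theorem Good.comp {T T' : Scheme.{u}} {j : T ⟶ B} (h : Good p q Z A j) (i : T' ⟶ T) :
    Good p q Z A (i ≫ j) := by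
  obtain ⟨e⟩ := h
  let b : pullback p ((i ≫ j) ≫ q) ⟶ pullback p (j ≫ q) := bm p i (Category.assoc _ _ _).symm
  have h1 : b ≫ bm p j rfl = bm p (i ≫ j) rfl := bm_bm p _ _ _ _ _ rfl _
  have h2 : b ≫ pullback.fst p (j ≫ q) = pullback.fst p ((i ≫ j) ≫ q) := bm_fst p _ _
  exact ⟨R2 h1 Z ≪≫ (FEt.restrict b).mapIso e ≪≫ (R2 h2 A).symm⟩

theorem Good.of_comp {T T' : Scheme.{u}} {j : T ⟶ B} (i : T' ⟶ T)
    (hi : (FEt.restrict (pullback.fst (pullback.snd p (j ≫ q)) i)).IsEquivalence)
    (h : Good p q Z A (i ≫ j)) : Good p q Z A j := by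
  obtain ⟨e⟩ := h
  let b : pullback p ((i ≫ j) ≫ q) ⟶ pullback p (j ≫ q) := bm p i (Category.assoc _ _ _).symm
  have h1 : b ≫ bm p j rfl = bm p (i ≫ j) rfl := bm_bm p _ _ _ _ _ rfl _
  have h2 : b ≫ pullback.fst p (j ≫ q) = pullback.fst p ((i ≫ j) ≫ q) := bm_fst p _ _
  have h3 : (FEt.restrict b).IsEquivalence := isEquivalence_of_isPullback (isPullback_bm p i _) hi
  exact ⟨(Functor.FullyFaithful.ofFullyFaithful (FEt.restrict b)).preimageIso
    ((R2 h1 Z).symm ≪≫ e ≪≫ R2 h2 A)⟩

theorem Good.congr {A' : FEt.Cat P} {T : Scheme.{u}} {j : T ⟶ B} (h : Good p q Z A j)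
    (e : A ≅ A') : Good p q Z A' j := by
  obtain ⟨e'⟩ := h
  exact ⟨e' ≪≫ (FEt.restrict _).mapIso e⟩

theorem Good.nonempty_iso {A' : FEt.Cat P} {T : Scheme.{u}} {j : T ⟶ B} (h : Good p q Z A j)
    (h' : Good p q Z A' j) (hj : (FEt.restrict (pullback.fst p (j ≫ q))).IsEquivalence) :
    Nonempty (A ≅ A') := by
  obtain ⟨e⟩ := h
  obtain ⟨e'⟩ := h'
  exact ⟨(Functor.FullyFaithful.ofFullyFaithful (FEt.restrict (pullback.fst p (j ≫ q)))).preimageIso
    (e.symm ≪≫ e')⟩

theorem exists_good (Z : FEt.Cat (pullback p q)) {T : Scheme.{u}} (j : T ⟶ B)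
    (hj : (FEt.restrict (pullback.fst p (j ≫ q))).IsEquivalence) :
    ∃ A : FEt.Cat P, Good p q Z A j :=
  ⟨(FEt.restrict (pullback.fst p (j ≫ q))).objPreimage ((FEt.restrict (bm p (t := q) j rfl)).obj Z),
    ⟨((FEt.restrict (pullback.fst p (j ≫ q))).objObjPreimageIso _).symm⟩⟩

end Good

section Points

variable {k : Type u} [Field k] [IsAlgClosed k] {P B : Scheme.{u}}
  {p : P ⟶ Spec (CommRingCat.of k)} [IsProper p] {q : B ⟶ Spec (CommRingCat.of k)}
  {Z : FEt.Cat (pullback p q)} {A : FEt.Cat P}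

omit [IsAlgClosed k] in
/-- Independence of the geometric point over a given point. -/
theorem good_of_point_eq {K K' : Type u} [Field K] [IsAlgClosed K] [Field K'] [IsAlgClosed K']
    {b : Spec (CommRingCat.of K) ⟶ B} {b' : Spec (CommRingCat.of K') ⟶ B}
    (hb : b (IsLocalRing.closedPoint K) = b' (IsLocalRing.closedPoint K'))
    (h : Good p q Z A b) : Good p q Z A b' := by
  obtain ⟨z, -, -⟩ := Scheme.Pullback.exists_preimage_pullback (f := b) (g := b')
    (IsLocalRing.closedPoint K) (IsLocalRing.closedPoint K') hb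
  obtain ⟨L, _, _, s, -, -⟩ := Groth.Agent.Pi1A.ConnFibres.exists_geometric_point (pullback b b') z
  let l : Spec (CommRingCat.of L) ⟶ Spec (CommRingCat.of K) := s ≫ pullback.fst b b'
  let l' : Spec (CommRingCat.of L) ⟶ Spec (CommRingCat.of K') := s ≫ pullback.snd b b'
  have hl : l ≫ b = l' ≫ b' := by
    simp only [l, l', Category.assoc, pullback.condition]
  refine Good.of_comp l' (algClosed_isEquivalence l' _) ?_
  rw [← hl]
  exact h.comp l

omit [IsAlgClosed k] in
/-- Generization. -/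
theorem good_of_specializes {K K' : Type u} [Field K] [IsAlgClosed K] [Field K'] [IsAlgClosed K']
    {b : Spec (CommRingCat.of K) ⟶ B} {c : Spec (CommRingCat.of K') ⟶ B}
    (hcb : c (IsLocalRing.closedPoint K') ⤳ b (IsLocalRing.closedPoint K))
    (h : Good p q Z A b) : Good p q Z A c := by
  let x : B := b (IsLocalRing.closedPoint K)
  let R : Type u := B.presheaf.stalk x
  obtain ⟨C, _, _, _, _, hC, -⟩ := Groth.Agent.Hensel.Exist.exists_isStrictHenselization R
  have hhens : HenselianLocalRing C := hC.henselian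
  have hsep : IsSepClosed (IsLocalRing.ResidueField C) := hC.isSepClosure.sep_closed
  have hff : Module.FaithfullyFlat R C :=
    Groth.Agent.Hensel.Lazard.faithfullyFlat_of_isStrictHenselization R C
  let v : Spec (CommRingCat.of C) ⟶ Spec (B.presheaf.stalk x) :=
    Spec.map (CommRingCat.ofHom (algebraMap R C))
  let w : Spec (CommRingCat.of C) ⟶ B := v ≫ B.fromSpecStalk x
  have hv : v (IsLocalRing.closedPoint C) = IsLocalRing.closedPoint R :=
    IsLocalRing.comap_closedPoint (algebraMap R C)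
  have hw : w (IsLocalRing.closedPoint C) = x := by
    rw [Scheme.Hom.comp_apply, hv]
    exact Scheme.fromSpecStalk_closedPoint
  have hvs : Function.Surjective v := PrimeSpectrum.comap_surjective_of_faithfullyFlat
  -- the closed geometric point
  obtain ⟨K₀, _, _, s₀, y₀, hy₀⟩ := Groth.Agent.Pi1A.ConnFibres.exists_geometric_point
    (Spec (CommRingCat.of C)) (IsLocalRing.closedPoint C)
  have hs₀ : s₀ (IsLocalRing.closedPoint K₀) = IsLocalRing.closedPoint C := by
    rw [← hy₀]
    congr 1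
    exact Subsingleton.elim (α := PrimeSpectrum K₀) _ _
  have h₀ : Good p q Z A (s₀ ≫ w) := by
    refine good_of_point_eq ?_ h
    rw [Scheme.Hom.comp_apply, hs₀, hw]
  have h₁ : Good p q Z A w := h₀.of_comp s₀ (strictLocal_isEquivalence C s₀ hs₀ _)
  -- the other geometric point
  obtain ⟨z, hz⟩ : ∃ z, B.fromSpecStalk x z = c (IsLocalRing.closedPoint K') := by
    have : c (IsLocalRing.closedPoint K') ∈ Set.range (B.fromSpecStalk x) := by
      rw [Scheme.range_fromSpecStalk]
      exact hcb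
    exact this
  obtain ⟨z', rfl⟩ := hvs z
  obtain ⟨K₁, _, _, s₁, y₁, hy₁⟩ := Groth.Agent.Pi1A.ConnFibres.exists_geometric_point
    (Spec (CommRingCat.of C)) z'
  have hs₁ : s₁ (IsLocalRing.closedPoint K₁) = z' := by
    rw [← hy₁]
    congr 1
    exact Subsingleton.elim (α := PrimeSpectrum K₁) _ _
  refine good_of_point_eq ?_ (h₁.comp s₁)
  rw [Scheme.Hom.comp_apply, hs₁, Scheme.Hom.comp_apply, hz]

/-- Specialization. -/
theorem good_of_specializes' {K K' : Type u} [Field K] [IsAlgClosed K] [Field K'] [IsAlgClosed K']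
    {b : Spec (CommRingCat.of K) ⟶ B} {c : Spec (CommRingCat.of K') ⟶ B}
    (hcb : c (IsLocalRing.closedPoint K') ⤳ b (IsLocalRing.closedPoint K))
    (h : Good p q Z A c) : Good p q Z A b := by
  obtain ⟨A', hA'⟩ := exists_good (p := p) (q := q) Z b (algClosed_isEquivalence (b ≫ q) p)
  obtain ⟨e⟩ := (good_of_specializes hcb hA').nonempty_iso h (algClosed_isEquivalence (c ≫ q) p)
  exact hA'.congr e

/-- Constancy of the geometric fibres. -/
theorem good_of_connected [IsLocallyNoetherian B] [ConnectedSpace B]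
    {K K' : Type u} [Field K] [IsAlgClosed K] [Field K'] [IsAlgClosed K']
    {b : Spec (CommRingCat.of K) ⟶ B} (c : Spec (CommRingCat.of K') ⟶ B)
    (h : Good p q Z A b) : Good p q Z A c := by
  let s : Set B := {x | ∃ (L : Type u) (_ : Field L) (_ : IsAlgClosed L)
    (l : Spec (CommRingCat.of L) ⟶ B), l (IsLocalRing.closedPoint L) = x ∧ Good p q Z A l}
  have hs : s = Set.univ := by
    apply StableClopen.eq_univ_of_stable
    · exact ⟨_, K, inferInstance, inferInstance, b, rfl, h⟩
    · rintro x y hxy ⟨L, _, _, l, rfl, hl⟩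
      obtain ⟨M, _, _, m, y₀, hy₀⟩ := Groth.Agent.Pi1A.ConnFibres.exists_geometric_point B y
      have hm : m (IsLocalRing.closedPoint M) = y := by
        rw [← hy₀]
        congr 1
        exact Subsingleton.elim (α := PrimeSpectrum M) _ _
      exact ⟨M, inferInstance, inferInstance, m, hm, good_of_specializes' (hm ▸ hxy) hl⟩
    · rintro x y hxy ⟨L, _, _, l, rfl, hl⟩
      obtain ⟨M, _, _, m, y₀, hy₀⟩ := Groth.Agent.Pi1A.ConnFibres.exists_geometric_point B y
      have hm : m (IsLocalRing.closedPoint M) = y := by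
        rw [← hy₀]
        congr 1
        exact Subsingleton.elim (α := PrimeSpectrum M) _ _
      exact ⟨M, inferInstance, inferInstance, m, hm, good_of_specializes (hm ▸ hxy) hl⟩
  obtain ⟨L, _, _, l, hl, hg⟩ : c (IsLocalRing.closedPoint K') ∈ s := hs ▸ Set.mem_univ _
  exact good_of_point_eq hl hg

end Points

end Groth.Agent.Pi1.H384.Constancy
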