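import Groth.Agent.S2915
import Groth.Agent.Pi1.H384.Constancy
import Groth.Agent.Pi1.H384.SplitBasic
import Groth.Agent.Pi1.H384.GeomConn
import Mathlib.AlgebraicGeometry.Noetherian

/-!
# Finite étale covers of a product with split fibres come from the base

Let `P` be proper and connected over an algebraically closed field `k`, `B` a connected locally
Noetherian `k`-scheme, `Z` a finite étale cover of `P ×_k B`. If the restriction of `Z` to one
geometric fibre of `P ×_k B → B` is split, `Z` is the pullback of a finite étale cover of `B`.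
-/

set_option autoImplicit false

universe u

open CategoryTheory CategoryTheory.Limits AlgebraicGeometry
open Groth.Agent.Pi1A.FEtAffine Groth.Agent.Pi1.H384.StrictEquiv
  Groth.Agent.Pi1.H384.SplitCover Groth.Agent.Pi1.H384.SplitBasic Groth.Agent.Pi1.H384.Constancy

namespace Groth.Agent.Pi1.H384.ConstDesc

variable {k : Type u} [Field k] [IsAlgClosed k] {P B : Scheme.{u}}
  {p : P ⟶ Spec (CommRingCat.of k)} {q : B ⟶ Spec (CommRingCat.of k)}

/-- Covers of `P ×_k B` with a split geometric fibre over `B` come from `B`. -/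
theorem exists_descent [IsProper p] [ConnectedSpace P] [IsLocallyNoetherian B] [ConnectedSpace B]
    (Z : FEt.Cat (pullback p q))
    {K : Type u} [Field K] [IsAlgClosed K] (b : Spec (CommRingCat.of K) ⟶ B)
    (h : Pi1.IsSplit ((FEt.restrict (bm p (t := q) b rfl)).obj Z)) :
    ∃ W : FEt.Cat B, Nonempty ((FEt.restrict (pullback.snd p q)).obj W ≅ Z) := by
  have hgc : GeometricallyConnected p := GeomConn.geometricallyConnected p
  have hgc' : GeometricallyConnected (pullback.snd p q) := inferInstance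
  have hlft : LocallyOfFinitePresentation p :=
    LocallyOfFinitePresentation.iff_locallyOfFiniteType.mpr inferInstance
  obtain ⟨ι, hι, ⟨e⟩⟩ := exists_iso_trivialObj h
  have hgood : Good p q Z (trivialObj P ι) b := ⟨e ≪≫ (restrictTrivial _ ι).symm⟩
  refine Groth.Agent.S2915.result (pullback.snd p q) (fun L _ _ ξ => inferInstance) Z ?_
  intro L _ _ ξ
  obtain ⟨e'⟩ := good_of_connected ξ hgood
  have h1 : Pi1.IsSplit ((FEt.restrict (bm p (t := q) ξ rfl)).obj Z) :=
    isSplit_of_iso (e' ≪≫ restrictTrivial _ ι).symm (isSplit_trivialObj _ ι)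
  have h2 : (pullbackLeftPullbackSndIso p q ξ).hom ≫ bm p (t := q) ξ rfl =
      pullback.fst (pullback.snd p q) ξ := by
    apply pullback.hom_ext
    · rw [Category.assoc, bm_fst, pullbackLeftPullbackSndIso_hom_fst]
    · rw [Category.assoc, bm_snd, pullbackLeftPullbackSndIso_hom_snd_assoc, pullback.condition]
  exact isSplit_of_iso (R2 h2 Z).symm (isSplit_restrict _ h1)

/-- Section of `P ×_k B → B` given by a rational point of `P`. -/
noncomputable def sec (p : P ⟶ Spec (CommRingCat.of k)) (q : B ⟶ Spec (CommRingCat.of k))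
    (y : Spec (CommRingCat.of k) ⟶ P) (hy : y ≫ p = 𝟙 _) : B ⟶ pullback p q :=
  pullback.lift (q ≫ y) (𝟙 B) (by rw [Category.assoc, hy, Category.comp_id, Category.id_comp])

/-- For `P` proper and connected, `B` connected, the restrictions of a finite étale cover of
`P ×_k B` to the sections given by two rational points of `P` are isomorphic. -/
theorem nonempty_iso_sec [IsProper p] [ConnectedSpace P] [IsLocallyNoetherian B] [ConnectedSpace B]
    (Z : FEt.Cat (pullback p q)) (y y' : Spec (CommRingCat.of k) ⟶ P) (hy : y ≫ p = 𝟙 _)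
    (hy' : y' ≫ p = 𝟙 _) :
    Nonempty ((FEt.restrict (sec p q y hy)).obj Z ≅ (FEt.restrict (sec p q y' hy')).obj Z) := by
  obtain ⟨x⟩ : Nonempty B := inferInstance
  obtain ⟨K, _, _, b, -⟩ := Groth.Agent.Pi1A.ConnFibres.exists_geometric_point B x
  -- the geometric fibre
  obtain ⟨T, ⟨eT⟩⟩ := exists_good (p := p) (q := q) Z b (algClosed_isEquivalence (b ≫ q) p)
  obtain ⟨P₁, -, hconn, hsurj, hsplit⟩ := exists_split T
  have hfin : IsFinite P₁.hom := P₁.prop.1
  let p' : P₁.left ⟶ Spec (CommRingCat.of k) := P₁.hom ≫ p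
  have hp' : IsProper p' := inferInstanceAs (IsProper (P₁.hom ≫ p))
  -- base change to `P₁ ×_k B`
  let m : pullback p' q ⟶ pullback p q :=
    pullback.lift (pullback.fst p' q ≫ P₁.hom) (pullback.snd p' q) (by
      rw [Category.assoc]; exact pullback.condition)
  have hm₁ : m ≫ pullback.fst p q = pullback.fst p' q ≫ P₁.hom := pullback.lift_fst _ _ _
  have hm₂ : m ≫ pullback.snd p q = pullback.snd p' q := pullback.lift_snd _ _ _
  let Z' : FEt.Cat (pullback p' q) := (FEt.restrict m).obj Z
  let n : pullback p' (b ≫ q) ⟶ pullback p (b ≫ q) :=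
    pullback.lift (pullback.fst p' (b ≫ q) ≫ P₁.hom) (pullback.snd p' (b ≫ q)) (by
      rw [Category.assoc]; exact pullback.condition)
  have hn₁ : n ≫ pullback.fst p (b ≫ q) = pullback.fst p' (b ≫ q) ≫ P₁.hom := pullback.lift_fst _ _ _
  have hn₂ : n ≫ pullback.snd p (b ≫ q) = pullback.snd p' (b ≫ q) := pullback.lift_snd _ _ _
  have hmn : n ≫ bm p (t := q) b rfl = bm p' (t := q) b rfl ≫ m := by
    apply pullback.hom_ext
    · rw [Category.assoc, bm_fst, hn₁, Category.assoc, hm₁, bm_fst_assoc]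
    · rw [Category.assoc, bm_snd, reassoc_of% hn₂, Category.assoc, hm₂, bm_snd]
  let e₁ : (FEt.restrict (bm p' (t := q) b rfl)).obj Z' ≅
      (FEt.restrict (pullback.fst p' (b ≫ q))).obj ((FEt.restrict P₁.hom).obj T) :=
    (R2 rfl Z).symm ≪≫ R2 hmn Z ≪≫ (FEt.restrict n).mapIso eT ≪≫ (R2 rfl T).symm ≪≫ R2 hn₁.symm T
  have hsplit' : Pi1.IsSplit ((FEt.restrict (bm p' (t := q) b rfl)).obj Z') :=
    isSplit_of_iso e₁.symm (isSplit_restrict _ hsplit)
  obtain ⟨W, ⟨eW⟩⟩ := exists_descent Z' b hsplit'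
  -- lifting rational points
  have key (z : Spec (CommRingCat.of k) ⟶ P) (hz : z ≫ p = 𝟙 _) :
      Nonempty ((FEt.restrict (sec p q z hz)).obj Z ≅ W) := by
    obtain ⟨w, hw⟩ := P₁.hom.surjective (z (IsLocalRing.closedPoint k))
    obtain ⟨z', hz', -⟩ := Groth.Agent.Pi1B.FEtGalois.exists_geometric_point P₁.hom z w hw
    have hz'' : z' ≫ p' = 𝟙 _ := by
      rw [← Category.assoc, hz', hz]
    have h1 : sec p' q z' hz'' ≫ m = sec p q z hz := by
      apply pullback.hom_ext
      · rw [Category.assoc, hm₁, sec, pullback.lift_fst_assoc, Category.assoc, hz', sec,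
          pullback.lift_fst]
      · rw [Category.assoc, hm₂, sec, pullback.lift_snd, sec, pullback.lift_snd]
    have h2 : sec p' q z' hz'' ≫ pullback.snd p' q = 𝟙 B := pullback.lift_snd _ _ _
    exact ⟨R2 h1 Z ≪≫ (FEt.restrict (sec p' q z' hz'')).mapIso eW.symm ≪≫ (R2 h2 W).symm ≪≫
      (restrictId B).app W⟩
  obtain ⟨e⟩ := key y hy
  obtain ⟨e'⟩ := key y' hy'
  exact ⟨e ≪≫ e'.symm⟩

end Groth.Agent.Pi1.H384.ConstDesc
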