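import Groth.Agent.Pi1.H384.ConstDesc
import Groth.Agent.Pi1.H384.GlueDisj

/-!
# Families of finite étale covers over a product with a proper factor
-/

set_option autoImplicit false

universe u

open CategoryTheory CategoryTheory.Limits AlgebraicGeometry
open Groth.Agent.Pi1A.FEtAffine Groth.Agent.Pi1.H384.StrictEquiv
  Groth.Agent.Pi1.H384.SplitCover Groth.Agent.Pi1.H384.SplitBasic Groth.Agent.Pi1.H384.Constancy
  Groth.Agent.Pi1.H384.ConstDesc

namespace Groth.Agent.Pi1.H384.FamConst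

/-- Any two finite étale covers of the empty scheme are isomorphic. -/
theorem nonempty_iso_of_isEmpty {X : Scheme.{u}} [IsEmpty X] (A A' : FEt.Cat X) :
    Nonempty (A ≅ A') := by
  have h1 : IsEmpty A.left := Function.isEmpty (β := X) A.hom
  have h2 : IsEmpty A'.left := Function.isEmpty (β := X) A'.hom
  exact ⟨(isInitialObj A).uniqueUpToIso (isInitialObj A')⟩

/-- Self-maps of the spectrum of a field under a nonempty scheme are the identity. -/
theorem eq_id_of_comp_eq {k : Type u} [Field k] {X : Scheme.{u}} [Nonempty X]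
    (f : X ⟶ Spec (CommRingCat.of k)) (σ : Spec (CommRingCat.of k) ⟶ Spec (CommRingCat.of k))
    (h : f ≫ σ = f) : σ = 𝟙 _ := by
  obtain ⟨x⟩ : Nonempty X := inferInstance
  obtain ⟨φ, rfl⟩ := Spec.map_surjective σ
  obtain ⟨ψ, hψ⟩ := Spec.map_surjective (X.fromSpecResidueField x ≫ f)
  have h1 : Spec.map (φ ≫ ψ) = Spec.map ψ := by
    rw [Spec.map_comp, hψ, Category.assoc, h]
  have h2 := Spec.map_injective h1
  have h3 : φ = 𝟙 _ := by
    ext a
    have h4 : ψ.hom (φ.hom a) = ψ.hom a := congr($(h2).hom a)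
    exact ψ.hom.injective h4
  rw [h3, Spec.map_id]

variable {k : Type u} [Field k] [IsAlgClosed k] {X Y : Scheme.{u}}
  {pX : X ⟶ Spec (CommRingCat.of k)} {pY : Y ⟶ Spec (CommRingCat.of k)}

omit [IsAlgClosed k] in
/-- `Good` at rational points. -/
theorem good_iff (Z' : FEt.Cat (pullback pX pY)) (A : FEt.Cat X)
    (y : Spec (CommRingCat.of k) ⟶ Y) (h : y ≫ pY = 𝟙 _)
    (hy : 𝟙 X ≫ pX = (pX ≫ y) ≫ pY) :
    Good pX pY Z' A y ↔ Nonempty ((FEt.restrict (pullback.lift (𝟙 X) (pX ≫ y) hy)).obj Z' ≅ A) := by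
  let t : X ⟶ pullback pX (y ≫ pY) := pullback.lift (𝟙 X) pX (by rw [h, Category.comp_id,
    Category.id_comp])
  have ht₁ : t ≫ pullback.fst pX (y ≫ pY) = 𝟙 X := pullback.lift_fst _ _ _
  have ht₂ : t ≫ pullback.snd pX (y ≫ pY) = pX := pullback.lift_snd _ _ _
  constructor
  · rintro ⟨e⟩
    have h1 : t ≫ bm pX (t := pY) y rfl = pullback.lift (𝟙 X) (pX ≫ y) hy := by
      apply pullback.hom_ext
      · rw [Category.assoc, bm_fst, ht₁, pullback.lift_fst]
      · rw [Category.assoc, bm_snd, reassoc_of% ht₂, pullback.lift_snd]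
    exact ⟨R2 h1 Z' ≪≫ (FEt.restrict t).mapIso e ≪≫ (R2 ht₁ A).symm ≪≫ (restrictId X).app A⟩
  · rintro ⟨e⟩
    have h1 : pullback.fst pX (y ≫ pY) ≫ pullback.lift (𝟙 X) (pX ≫ y) hy =
        bm pX (t := pY) y rfl := by
      apply pullback.hom_ext
      · rw [Category.assoc, pullback.lift_fst, bm_fst, Category.comp_id]
      · rw [Category.assoc, pullback.lift_snd, bm_snd, pullback.condition_assoc, h]
        rw [Category.id_comp]
    exact ⟨R2 h1 Z' ≪≫ (FEt.restrict _).mapIso e⟩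

/-- The parameter space is connected, the fibres are proper. -/
theorem nonempty_iso_of_proper_left [IsProper pX] [IsLocallyNoetherian Y] [ConnectedSpace Y]
    (Z' : FEt.Cat (pullback pX pY)) (y y' : Spec (CommRingCat.of k) ⟶ Y) (h : y ≫ pY = 𝟙 _)
    (h' : y' ≫ pY = 𝟙 _)
    (hy : 𝟙 X ≫ pX = (pX ≫ y) ≫ pY) (hy' : 𝟙 X ≫ pX = (pX ≫ y') ≫ pY) :
    Nonempty ((FEt.restrict (pullback.lift (𝟙 X) (pX ≫ y) hy)).obj Z' ≅
      (FEt.restrict (pullback.lift (𝟙 X) (pX ≫ y') hy')).obj Z') := by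
  let A : FEt.Cat X := (FEt.restrict (pullback.lift (𝟙 X) (pX ≫ y) hy)).obj Z'
  have h1 : Good pX pY Z' A y := (good_iff Z' A y h hy).mpr ⟨Iso.refl _⟩
  have h2 : Good pX pY Z' A y' := good_of_connected y' h1
  obtain ⟨e⟩ := (good_iff Z' A y' h' hy').mp h2
  exact ⟨e.symm⟩

/-- The parameter space is connected and proper. -/
theorem nonempty_iso_of_proper_right [IsProper pY] [IsLocallyNoetherian X] [ConnectedSpace Y]
    (Z' : FEt.Cat (pullback pX pY)) (y y' : Spec (CommRingCat.of k) ⟶ Y) (h : y ≫ pY = 𝟙 _)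
    (h' : y' ≫ pY = 𝟙 _)
    (hy : 𝟙 X ≫ pX = (pX ≫ y) ≫ pY) (hy' : 𝟙 X ≫ pX = (pX ≫ y') ≫ pY) :
    Nonempty ((FEt.restrict (pullback.lift (𝟙 X) (pX ≫ y) hy)).obj Z' ≅
      (FEt.restrict (pullback.lift (𝟙 X) (pX ≫ y') hy')).obj Z') := by
  refine GlueDisj.nonempty_iso_of_components _ _ fun U hU => ?_
  have hU' : ConnectedSpace (U : Scheme.{u}) := hU
  let q : (U : Scheme.{u}) ⟶ Spec (CommRingCat.of k) := U.ι ≫ pX
  let m : pullback pY q ⟶ pullback pX pY :=
    pullback.lift (pullback.snd pY q ≫ U.ι) (pullback.fst pY q) (by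
      rw [Category.assoc]; exact pullback.condition.symm)
  have hm₁ : m ≫ pullback.fst pX pY = pullback.snd pY q ≫ U.ι := pullback.lift_fst _ _ _
  have hm₂ : m ≫ pullback.snd pX pY = pullback.fst pY q := pullback.lift_snd _ _ _
  have key (z : Spec (CommRingCat.of k) ⟶ Y) (hz : z ≫ pY = 𝟙 _)
      (hz' : 𝟙 X ≫ pX = (pX ≫ z) ≫ pY) :
      sec pY q z hz ≫ m = U.ι ≫ pullback.lift (𝟙 X) (pX ≫ z) hz' := by
    apply pullback.hom_ext
    · rw [Category.assoc, hm₁, sec, pullback.lift_snd_assoc, Category.id_comp, Category.assoc,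
        pullback.lift_fst, Category.comp_id]
    · rw [Category.assoc, hm₂, sec, pullback.lift_fst, Category.assoc, Category.assoc,
        pullback.lift_snd]
  obtain ⟨e⟩ := nonempty_iso_sec ((FEt.restrict m).obj Z') y y' h h'
  exact ⟨(R2 rfl Z').symm ≪≫ R2 (key y h hy) Z' ≪≫ e ≪≫ (R2 (key y' h' hy') Z').symm ≪≫ R2 rfl Z'⟩

/-- Families of finite étale covers are constant when one of the factors is proper. -/
theorem main (pX : X ⟶ Spec (CommRingCat.of k)) (pY : Y ⟶ Spec (CommRingCat.of k))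
    [IsLocallyNoetherian X] [IsLocallyNoetherian Y] [ConnectedSpace Y]
    (hprop : IsProper pX ∨ IsProper pY) (Z' : FEt.Cat (pullback pX pY))
    (y y' : Spec (CommRingCat.of k) ⟶ Y) (hy : 𝟙 X ≫ pX = (pX ≫ y) ≫ pY)
    (hy' : 𝟙 X ≫ pX = (pX ≫ y') ≫ pY) :
    Nonempty ((FEt.restrict (pullback.lift (𝟙 X) (pX ≫ y) hy)).obj Z' ≅
      (FEt.restrict (pullback.lift (𝟙 X) (pX ≫ y') hy')).obj Z') := by
  rcases isEmpty_or_nonempty X with hX | hX
  · exact nonempty_iso_of_isEmpty _ _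
  have h : y ≫ pY = 𝟙 _ := eq_id_of_comp_eq pX _ (by
    rw [← Category.assoc, ← hy, Category.id_comp])
  have h' : y' ≫ pY = 𝟙 _ := eq_id_of_comp_eq pX _ (by
    rw [← Category.assoc, ← hy', Category.id_comp])
  rcases hprop with hp | hp
  · exact nonempty_iso_of_proper_left Z' y y' h h' hy hy'
  · exact nonempty_iso_of_proper_right Z' y y' h h' hy hy'

end Groth.Agent.Pi1.H384.FamConst
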