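import Groth.Agent.Pi1.H384.ChartDvrSch
import Groth.Agent.Pi1.H390.AbhPt
import Groth.Agent.Pi1B.ExtStep
import Groth.Agent.Ega4dB.SmoothReg
import Groth.Agent.S0558

/-!
# Principal covers of the complement of the zeros of an étale coordinate extend over the Kummer cover

`T` affine regular Noetherian domain, `p : X ⟶ T`, `W ⊆ X` open, `f ∈ Γ(W)` with `(p, f) : W ⟶ 𝔸¹_T` étale, `U ⊆ X` the
complement of the zeros of `f`; `π : X' ⟶ X`, `E' = π⁻¹ W` with `z ∈ Γ(E')`, `z ^ N = f`, `(p, z) : E' ⟶ 𝔸¹_T` étale.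
Every principal `G`-cover of `U` with `|G|` dividing `N`, `N` invertible on `T`, extends to a finite étale cover of `X'`
after pullback to `π⁻¹ U`.
-/

set_option autoImplicit false
universe u v

open CategoryTheory CategoryTheory.Limits AlgebraicGeometry TopologicalSpace IsLocalRing

namespace Groth.Agent.Pi1.H384.KumExt

open DenseCoord Groth.Agent.Pi1A.FEtAffine Groth.Agent.Pi1.H390.AbhPt

/-- Comparison of the extension conditions over `X` and over `X'`. -/
theorem cmp {Y X' X : Scheme.{u}} (π : X' ⟶ X) (U : X.Opens) (a : Y ⟶ X') (b : Y ⟶ X) (hb : b = a ≫ π)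
    (P : FEt.Cat (U : Scheme.{u})) (Y₁ : FEt.Cat Y)
    (i : (FEt.restrict (pullback.snd U.ι b)).obj Y₁ ≅ (FEt.restrict (pullback.fst U.ι b)).obj P) :
    Nonempty ((FEt.restrict (pullback.snd (π ⁻¹ᵁ U).ι a)).obj Y₁ ≅
      (FEt.restrict (pullback.fst (π ⁻¹ᵁ U).ι a)).obj ((FEt.restrict (π ∣_ U)).obj P)) := by
  subst hb
  let c : pullback (π ⁻¹ᵁ U).ι a ⟶ pullback U.ι (a ≫ π) :=
    pullback.lift (pullback.fst _ _ ≫ π ∣_ U) (pullback.snd _ _) (by
      rw [Category.assoc, morphismRestrict_ι, pullback.condition_assoc])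
  have h1 : c ≫ pullback.fst U.ι (a ≫ π) = pullback.fst _ _ ≫ π ∣_ U := pullback.lift_fst _ _ _
  have h2 : c ≫ pullback.snd U.ι (a ≫ π) = pullback.snd _ _ := pullback.lift_snd _ _ _
  exact ⟨(restrictCongr h2.symm).app Y₁ ≪≫ (restrictComp c _).app Y₁ ≪≫ (FEt.restrict c).mapIso i ≪≫
    ((restrictComp c _).app P).symm ≪≫ (restrictCongr h1).app P ≪≫ (restrictComp _ (π ∣_ U)).app P⟩

theorem fromSpecStalk_appTop' {X : Scheme.{u}} (y : X) :
    (X.fromSpecStalk y).appTop = X.presheaf.germ ⊤ y trivial ≫ (Scheme.ΓSpecIso (X.presheaf.stalk y)).inv := by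
  rw [Scheme.fromSpecStalk_appTop]
  have h : (Spec (X.presheaf.stalk y)).presheaf.map (homOfLE (le_top (a := (⊤ : (Spec (X.presheaf.stalk y)).Opens)))).op = 𝟙 _ :=
    (Spec (X.presheaf.stalk y)).presheaf.map_id _
  exact (congrArg (fun k => X.presheaf.germ ⊤ y trivial ≫ (Scheme.ΓSpecIso (X.presheaf.stalk y)).inv ≫ k) h).trans
    (by rw [Category.comp_id])

/-- Points of `Spec O_{X,y}` mapping to a basic open. -/
theorem fromSpecStalk_mem_basicOpen {X : Scheme.{u}} {y : X} (z : Spec (X.presheaf.stalk y)) (a : Γ(X, ⊤)) :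
    X.fromSpecStalk y z ∈ X.basicOpen a ↔ X.presheaf.germ ⊤ y trivial a ∉ z.asIdeal := by
  have h := mem_basicOpen_appTop (X.fromSpecStalk y) a z
  rw [← h, fromSpecStalk_appTop', CommRingCat.comp_apply, basicOpen_eq_of_affine', ← CommRingCat.comp_apply,
    Iso.inv_hom_id]
  rfl

section main

variable {T : Scheme.{u}} [IsAffine T] [IsDomain Γ(T, ⊤)] [IsLocallyNoetherian T]
  (hreg : ∀ t : T, IsRegularLocalRing (T.presheaf.stalk t)) {X X' E' : Scheme.{u}} (p : X ⟶ T)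
  (π : X' ⟶ X) [LocallyOfFiniteType (π ≫ p)] (W : X.Opens) (f : Γ(W, ⊤))
  (hW : Etale (AffineSpace.homOfVector (W.ι ≫ p) (fun _ : PUnit.{u+1} => f)))
  (j : E' ⟶ X') [IsOpenImmersion j] (q : E' ⟶ W) (sq : IsPullback j q π W.ι) (z : Γ(E', ⊤)) {N : ℕ}
  (hz : z ^ N = q.appTop f)
  (he : Etale (AffineSpace.homOfVector (q ≫ W.ι ≫ p) (fun _ : PUnit.{u+1} => z))) (U : X.Opens)
  (hU : ∀ x : X, x ∉ U ↔ ∃ w : W, W.ι w = x ∧ w ∉ W.toScheme.basicOpen f)
  {G : Type v} [Group G] [Finite G] (P : FEt.Cat (U : Scheme.{u})) (ρ : G →* Aut P)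
  (hP : SGA1t.IsPrincipal G P ρ) (hN : Nat.card G ∣ N) (hN0 : N ≠ 0) (hNT : IsUnit ((N : ℕ) : Γ(T, ⊤)))

theorem smooth_of_etale {W T : Scheme.{u}} (s : W ⟶ T) {f : Γ(W, ⊤)}
    (h : Etale (AffineSpace.homOfVector s (fun _ : PUnit.{u+1} => f))) : Smooth s := by
  have h1 : Smooth (𝔸(PUnit.{u+1}; T) ↘ T) := H413.SecChart.smooth_affineSpace _ _
  have h2 : Smooth (AffineSpace.homOfVector s (fun _ : PUnit.{u+1} => f) ≫ 𝔸(PUnit.{u+1}; T) ↘ T) :=
    inferInstance
  rwa [AffineSpace.homOfVector_over] at h2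

omit [IsAffine T] [IsDomain Γ(T, ⊤)] [IsLocallyNoetherian T] in
include hreg in
theorem isRegular {W : Scheme.{u}} (s : W ⟶ T) [Smooth s] (w : W) : IsRegularLocalRing (W.presheaf.stalk w) :=
  Ega4dB.SmoothReg.isRegularLocalRing_stalk_of_mem_smoothLocus s w
    (by rw [Scheme.Hom.smoothLocus_eq_top]; trivial) (hreg _)

omit [IsAffine T] [IsDomain Γ(T, ⊤)] [IsLocallyNoetherian T] [IsOpenImmersion j] in
include sq hz hU hN0 in
/-- Points of `X'` outside `π⁻¹ U`. -/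
theorem exists_point (ξ : X') (hξ : ξ ∉ π ⁻¹ᵁ U) :
    ∃ e : E', j e = ξ ∧ e ∉ E'.basicOpen z ∧ q e ∉ W.toScheme.basicOpen f := by
  obtain ⟨w, hw1, hw2⟩ := (hU (π ξ)).mp hξ
  obtain ⟨y, hy1, hy2⟩ := Scheme.Pullback.exists_preimage_pullback (f := π) (g := W.ι) ξ w hw1.symm
  let e : E' := sq.isoPullback.inv y
  have h1 : j e = ξ := by
    rw [← hy1, ← sq.isoPullback_inv_fst, Scheme.Hom.comp_apply]
  have h2 : q e = w := by
    rw [← hy2, ← sq.isoPullback_inv_snd, Scheme.Hom.comp_apply]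
  refine ⟨e, h1, ?_, ?_⟩
  · intro hcon
    have h3 : e ∈ E'.basicOpen (z ^ N) := by rwa [Scheme.basicOpen_pow _ _ (Nat.pos_of_ne_zero hN0)]
    rw [hz, mem_basicOpen_appTop, h2] at h3
    exact hw2 h3
  · rw [h2]; exact hw2

omit [LocallyOfFiniteType (π ≫ p)] in
include hreg hW sq hz he hU hP hN hN0 hNT in
/-- Extension over the local schemes of the points of codimension one. -/
theorem ext_codim_one (ξ : X') (hξ : ξ ∉ π ⁻¹ᵁ U) (hdim : ringKrullDim (X'.presheaf.stalk ξ) = 1) :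
    ∃ Yξ : FEt.Cat (Spec (X'.presheaf.stalk ξ)),
      Nonempty ((FEt.restrict (pullback.snd (π ⁻¹ᵁ U).ι (X'.fromSpecStalk ξ))).obj Yξ ≅
        (FEt.restrict (pullback.fst (π ⁻¹ᵁ U).ι (X'.fromSpecStalk ξ))).obj ((FEt.restrict (π ∣_ U)).obj P)) := by
  obtain ⟨e, rfl, hez, hqf⟩ := exists_point π W f j q sq z hz U hU hN0 ξ hξ
  have hsm1 : Smooth (W.ι ≫ p) := smooth_of_etale _ hW
  have hsm2 : Smooth (q ≫ W.ι ≫ p) := smooth_of_etale _ he
  have hN1 : IsLocallyNoetherian W.toScheme := LocallyOfFiniteType.isLocallyNoetherian (W.ι ≫ p)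
  have hN2 : IsLocallyNoetherian E' := LocallyOfFiniteType.isLocallyNoetherian (q ≫ W.ι ≫ p)
  let w : W.toScheme := q e
  have hregw := isRegular hreg (W.ι ≫ p) w
  have hdom : IsDomain (W.toScheme.presheaf.stalk w) := Groth.Agent.S0558.result _
  -- the point lies over the generic point of `T`
  have hgen : ∀ a : Γ(T, ⊤), (W.ι ≫ p) w ∉ T.basicOpen a → a = 0 := by
    intro a ha
    refine ChartDvrSch.eq_zero (q ≫ W.ι ≫ p) z he e hez ?_ a ?_
    · rw [← ringKrullDim_eq_of_ringEquiv (asIso (j.stalkMap e)).commRingCatIsoToRingEquiv]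
      exact hdim.le
    · rw [Scheme.Hom.comp_apply]
      exact ha
  have hdvr := ChartDvrSch.isDiscreteValuationRing (W.ι ≫ p) f hW w hqf hgen
  have hirr := ChartDvrSch.irreducible (W.ι ≫ p) f hW w hqf hgen
  -- the preimage of `U`
  have hU' : (W.toScheme.fromSpecStalk w ≫ W.ι) ⁻¹ᵁ U =
      PrimeSpectrum.basicOpen (W.toScheme.presheaf.germ ⊤ w trivial f) := by
    ext η
    have h1 : (W.toScheme.fromSpecStalk w ≫ W.ι) η ∈ U ↔
        W.toScheme.fromSpecStalk w η ∈ W.toScheme.basicOpen f := by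
      rw [Scheme.Hom.comp_apply, ← not_iff_not, hU]
      constructor
      · rintro ⟨w', hw1, hw2⟩
        have : w' = W.toScheme.fromSpecStalk w η := W.ι.isOpenEmbedding.injective hw1
        rwa [← this]
      · intro h
        exact ⟨_, rfl, h⟩
    exact h1.trans (fromSpecStalk_mem_basicOpen η f)
  have hNu : IsUnit ((N : ℕ) : ResidueField (W.toScheme.presheaf.stalk w)) := by
    have h1 := hNT.map (((residue (W.toScheme.presheaf.stalk w)).comp
      (W.toScheme.presheaf.germ ⊤ w trivial).hom).comp (W.ι ≫ p).appTop.hom)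
    rwa [map_natCast] at h1
  -- the morphism from the local scheme of `X'`
  let σ := Spec.map (j.stalkMap e)
  have hσi : IsIso σ := inferInstanceAs (IsIso (Spec.map (j.stalkMap e)))
  let τ : Spec (X'.presheaf.stalk (j e)) ⟶ Spec (CommRingCat.of (E'.presheaf.stalk e)) := inv σ
  have hσ : σ ≫ X'.fromSpecStalk (j e) = E'.fromSpecStalk e ≫ j := Scheme.SpecMap_stalkMap_fromSpecStalk j
  have hσ' : X'.fromSpecStalk (j e) = inv σ ≫ E'.fromSpecStalk e ≫ j := by
    rw [← hσ, IsIso.inv_hom_id_assoc]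
  let g : Spec (X'.presheaf.stalk (j e)) ⟶ Spec (CommRingCat.of (W.toScheme.presheaf.stalk w)) :=
    inv σ ≫ Spec.map (q.stalkMap e)
  have hg : g ≫ W.toScheme.fromSpecStalk w ≫ W.ι = X'.fromSpecStalk (j e) ≫ π := by
    have h1 : Spec.map (q.stalkMap e) ≫ W.toScheme.fromSpecStalk w = E'.fromSpecStalk e ≫ q :=
      Scheme.SpecMap_stalkMap_fromSpecStalk q
    change (inv σ ≫ Spec.map (q.stalkMap e)) ≫ W.toScheme.fromSpecStalk w ≫ W.ι = _
    rw [Category.assoc, reassoc_of% h1, hσ', Category.assoc, Category.assoc, sq.w]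
  let z' : Γ(Spec (X'.presheaf.stalk (j e)), ⊤) :=
    toΓ (R := E'.presheaf.stalk e) τ (E'.presheaf.germ ⊤ e trivial z)
  have hz' : z' ^ N = toΓ g (W.toScheme.presheaf.germ ⊤ w trivial f) := by
    have h1 : toΓ g = (toΓ (R := E'.presheaf.stalk e) τ).comp (q.stalkMap e).hom :=
      toΓ_comp_Spec (q.stalkMap e).hom τ
    rw [h1, RingHom.comp_apply]
    change (toΓ (R := E'.presheaf.stalk e) τ (E'.presheaf.germ ⊤ e trivial z)) ^ N = _
    rw [← map_pow, ← map_pow, hz]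
    congr 1
    exact ChartDvrSch.germ_top_appTop q e f
  obtain ⟨Y₁, ⟨i⟩⟩ := Groth.Agent.Pi1.H390.AbhPt.main hirr hN0 hNu U (W.toScheme.fromSpecStalk w ≫ W.ι) hU' P ρ
    hP hN g z' hz'
  exact ⟨Y₁, cmp π U _ _ hg P Y₁ i⟩

include hreg hW sq hz he hU hP hN hN0 hNT in
/-- **(N)** A principal cover of `U` extends to `X'` after pullback to `π⁻¹ U`. -/
theorem exists_extension : ∃ Y : FEt.Cat X',
    Nonempty ((FEt.restrict (π ⁻¹ᵁ U).ι).obj Y ≅ (FEt.restrict (π ∣_ U)).obj P) := by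
  have hsm2 : Smooth (q ≫ W.ι ≫ p) := smooth_of_etale _ he
  have hNoeth : IsLocallyNoetherian X' := LocallyOfFiniteType.isLocallyNoetherian (π ≫ p)
  refine Groth.Agent.Pi1B.ExtStep.exists_extension (π ⁻¹ᵁ U) ?_ ((FEt.restrict (π ∣_ U)).obj P) ?_ ?_
  · intro x
    by_cases hx : x ∈ π ⁻¹ᵁ U
    · exact subset_closure hx
    · obtain ⟨e, rfl, hez, hqf⟩ := exists_point π W f j q sq z hz U hU hN0 x hx
      rw [mem_closure_iff]
      intro O hO heO
      obtain ⟨e1, he1, he2⟩ := mem_closure_iff.mp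
        (dense_of_etale _ (fun _ : PUnit.{u+1} => z) he PUnit.unit e) (j ⁻¹' O) (hO.preimage j.continuous) heO
      refine ⟨j e1, he1, ?_⟩
      by_contra hcon
      obtain ⟨e2, he3, he4, -⟩ := exists_point π W f j q sq z hz U hU hN0 (j e1) hcon
      have : e2 = e1 := j.isOpenEmbedding.injective he3
      subst this
      exact he4 he2
  · intro x hx
    obtain ⟨e, rfl, -, -⟩ := exists_point π W f j q sq z hz U hU hN0 x hx
    have h := isRegular hreg (q ≫ W.ι ≫ p) e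
    exact IsRegularLocalRing.of_ringEquiv (asIso (j.stalkMap e)).commRingCatIsoToRingEquiv.symm
  · intro ξ hξ hdim
    exact ext_codim_one hreg p π W f hW j q sq z hz he U hU P ρ hP hN hN0 hNT ξ hξ hdim

end main

end Groth.Agent.Pi1.H384.KumExt
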