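import Groth.Agent.Pi1.H384.KumExt

/-!
# The extension theorem over `Spec A`, for `A` a regular domain (a field or a discrete valuation ring)
-/

set_option autoImplicit false
universe u v

open CategoryTheory CategoryTheory.Limits AlgebraicGeometry TopologicalSpace IsLocalRing

namespace Groth.Agent.Pi1.H384.KumExtSpec

/-- The stalks of `Spec A`, `A` regular. -/
theorem isRegularLocalRing_stalk (A : Type u) [CommRing A] [IsRegularRing A]
    (t : Spec (CommRingCat.of A)) : IsRegularLocalRing ((Spec (CommRingCat.of A)).presheaf.stalk t) := by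
  have : IsRegularLocalRing (Localization.AtPrime t.asIdeal) := IsRegularRing.isRegularLocalRing_localization _
  exact IsRegularLocalRing.of_ringEquiv (R' := (Spec (CommRingCat.of A)).presheaf.stalk t)
    (StructureSheaf.stalkIso A t).toRingEquiv

/-- **(N)** over `Spec A`. -/
theorem exists_extension (A : Type u) [CommRing A] [IsDomain A] [IsRegularRing A] {X X' E' : Scheme.{u}}
    (p : X ⟶ Spec (CommRingCat.of A)) (π : X' ⟶ X) [LocallyOfFiniteType (π ≫ p)] (W : X.Opens) (f : Γ(W, ⊤))
    (hW : Etale (AffineSpace.homOfVector (W.ι ≫ p) (fun _ : PUnit.{u+1} => f)))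
    (j : E' ⟶ X') [IsOpenImmersion j] (q : E' ⟶ W) (sq : IsPullback j q π W.ι) (z : Γ(E', ⊤)) {N : ℕ}
    (hz : z ^ N = q.appTop f)
    (he : Etale (AffineSpace.homOfVector (q ≫ W.ι ≫ p) (fun _ : PUnit.{u+1} => z))) (U : X.Opens)
    (hU : ∀ x : X, x ∉ U ↔ ∃ w : W, W.ι w = x ∧ w ∉ W.toScheme.basicOpen f)
    {G : Type v} [Group G] [Finite G] (P : FEt.Cat (U : Scheme.{u})) (ρ : G →* Aut P)
    (hP : SGA1t.IsPrincipal G P ρ) (hN : Nat.card G ∣ N) (hN0 : N ≠ 0) (hNT : IsUnit ((N : ℕ) : A)) :
    ∃ Y : FEt.Cat X',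
      Nonempty ((FEt.restrict (π ⁻¹ᵁ U).ι).obj Y ≅ (FEt.restrict (π ∣_ U)).obj P) := by
  have : IsDomain Γ(Spec (CommRingCat.of A), ⊤) :=
    (Scheme.ΓSpecIso (CommRingCat.of A)).commRingCatIsoToRingEquiv.toMulEquiv.isDomain _
  refine KumExt.exists_extension (fun t => isRegularLocalRing_stalk A t) p π W f hW j q sq z hz he U hU P ρ hP
    hN hN0 ?_
  have h := hNT.map (Scheme.ΓSpecIso (CommRingCat.of A)).inv.hom
  rwa [map_natCast] at h

/-- Fields and discrete valuation rings are covered. -/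
example (A : Type u) [Field A] : IsRegularRing A := inferInstance
example (A : Type u) [CommRing A] [IsDomain A] [IsDiscreteValuationRing A] : IsRegularRing A := inferInstance

end Groth.Agent.Pi1.H384.KumExtSpec
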