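import Groth.Agent.Pi1B.FEtPreGalois
import Groth.Agent.Pi1A.ConnFibres
import Groth.Agent.Sga1.SigmaFinite
import Groth.Prelude.Def_Pi1
import Mathlib.CategoryTheory.Galois.Decomposition

/-!
# Splitting covers of finite étale covers of a connected scheme
-/

set_option autoImplicit false

universe u

open CategoryTheory CategoryTheory.Limits AlgebraicGeometry
open Groth.Agent.Pi1B.FEtFibre Groth.Agent.Pi1B.FEtPreGalois

namespace Groth.Agent.Pi1.H384.SplitCover

/-- The empty cover. -/
noncomputable def emptyObj (X : Scheme.{u}) : FEt.Cat X :=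
  MorphismProperty.Over.mk ⊤ (Scheme.emptyTo X) ⟨inferInstance, inferInstance⟩

/-- A finite étale cover with empty total space is initial. -/
noncomputable def isInitialObj {X : Scheme.{u}} (A : FEt.Cat X) [h : IsEmpty A.left] :
    IsInitial A := by
  have hA : IsInitial A.left := isInitialOfIsEmpty
  refine IsInitial.ofUniqueHom (fun B => MorphismProperty.Over.homMk (hA.to B.left)
    (hA.hom_ext _ _)) ?_
  intro B m
  ext : 1
  exact hA.hom_ext _ _

/-- An initial finite étale cover has empty total space. -/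
theorem isEmpty_of_isInitial {X : Scheme.{u}} (A : FEt.Cat X) (h : IsInitial A) :
    IsEmpty A.left := by
  have : IsEmpty (emptyObj X).left := inferInstanceAs (IsEmpty (∅ : Scheme.{u}))
  exact Function.isEmpty (β := (emptyObj X).left) (fun x => (h.to (emptyObj X)).left x)

/-- Connected objects of `FEt.Cat X` are connected schemes. -/
theorem connectedSpace_left {X : Scheme.{u}} (A : FEt.Cat X) [hA : PreGaloisCategory.IsConnected A] :
    ConnectedSpace A.left := by
  have hne : Nonempty A.left := by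
    by_contra hcon
    rw [not_nonempty_iff] at hcon
    exact hA.notInitial (isInitialObj A)
  have hpre : PreconnectedSpace A.left := by
    rw [preconnectedSpace_iff_clopen]
    intro s hs
    by_cases hs0 : s = ∅
    · exact Or.inl hs0
    right
    let W : A.left.Opens := ⟨s, hs.2⟩
    have hW : IsClosed (W : Set A.left) := hs.1
    have hmono : Mono (clopenHom A W hW) := by
      constructor
      intro Z a b hab
      ext : 1
      have h1 : a.left ≫ W.ι = b.left ≫ W.ι := congr($(hab).left)
      exact (cancel_mono W.ι).mp h1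
    have hiso : IsIso (clopenHom A W hW) := by
      apply hA.noTrivialComponent _ (clopenHom A W hW)
      intro hini
      have := isEmpty_of_isInitial _ hini
      obtain ⟨x, hx⟩ := Set.nonempty_iff_ne_empty.mpr hs0
      exact this.false (show (W : Scheme) from ⟨x, hx⟩)
    have hiso' : IsIso ((MorphismProperty.Over.forget FEt.prop ⊤ X ⋙ Over.forget X).map
      (clopenHom A W hW)) := inferInstance
    have h2 : IsIso W.ι := hiso'
    have h3 : Function.Surjective W.ι := W.ι.homeomorph.surjective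
    rw [Set.eq_univ_iff_forall]
    intro x
    obtain ⟨y, rfl⟩ := h3 x
    exact y.2
  exact { toNonempty := hne, toPreconnectedSpace := hpre }

/-- A nonempty finite étale cover of a connected scheme is surjective. -/
theorem surjective_hom {X : Scheme.{u}} [ConnectedSpace X] (A : FEt.Cat X) [Nonempty A.left] :
    Surjective A.hom := by
  have h1 : IsFinite A.hom := A.prop.1
  have h2 : Etale A.hom := A.prop.2
  have hne : Nonempty ((𝟭 Scheme).obj A.left) := ‹Nonempty A.left›
  have hcs : ConnectedSpace ((Functor.fromPUnit X).obj A.right) := ‹ConnectedSpace X›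
  have himg : IsClopen (Set.range A.hom) := by
    rw [← Set.image_univ]
    exact ⟨A.hom.isClosedMap _ isClosed_univ, A.hom.isOpenMap _ isOpen_univ⟩
  have := himg.eq_univ (Set.range_nonempty _)
  exact ⟨Set.range_eq_univ.mp this⟩

/-- The trivial finite étale cover with fibre `ι`. -/
noncomputable def trivialObj (X : Scheme.{u}) (ι : Type u) [Finite ι] : FEt.Cat X :=
  MorphismProperty.Over.mk ⊤ (Sigma.desc (fun _ : ι => 𝟙 X)) (by
    constructor
    · exact Groth.Agent.Sga1.SigmaFinite.isFinite_sigmaDesc (fun _ : ι => 𝟙 X)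
    · exact (IsZariskiLocalAtSource.iff_of_openCover (P := @Etale) (sigmaOpenCover (fun _ : ι => X))).mpr
        fun i => by
          have h1 : (sigmaOpenCover (fun _ : ι => X)).f i ≫ Sigma.desc (fun _ : ι => 𝟙 X) = 𝟙 X :=
            Sigma.ι_desc _ _
          rw [h1]
          exact (inferInstance : Etale (𝟙 X)))

/-- Points of a trivial cover lie on one of the sheets. -/
theorem exists_sheet {X : Scheme.{u}} {Ω : Type u} [Field Ω] (ξ : Spec (CommRingCat.of Ω) ⟶ X)
    {ι : Type u} [Finite ι] (s : Spec (CommRingCat.of Ω) ⟶ ∐ fun _ : ι => X)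
    (hs : s ≫ Sigma.desc (fun _ : ι => 𝟙 X) = ξ) :
    ∃ i : ι, s = ξ ≫ Sigma.ι (fun _ : ι => X) i := by
  obtain ⟨i, x, hx⟩ : ∃ (i : ι) (x : X), Sigma.ι (fun _ : ι => X) i x =
      s (IsLocalRing.closedPoint Ω) :=
    (sigmaOpenCover (fun _ : ι => X)).exists_eq (s (IsLocalRing.closedPoint Ω))
  have hr : Set.range s ⊆ Set.range (Sigma.ι (fun _ : ι => X) i) := by
    rintro _ ⟨y, rfl⟩
    have : y = IsLocalRing.closedPoint Ω := Subsingleton.elim _ _
    exact ⟨x, by rw [hx, this]⟩
  refine ⟨i, ?_⟩
  have h1 : IsOpenImmersion.lift (Sigma.ι (fun _ : ι => X) i) s hr ≫ Sigma.ι (fun _ : ι => X) i = s :=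
    IsOpenImmersion.lift_fac _ _ _
  have h2 : IsOpenImmersion.lift (Sigma.ι (fun _ : ι => X) i) s hr = ξ := by
    rw [← hs, ← Category.comp_id (IsOpenImmersion.lift (Sigma.ι (fun _ : ι => X) i) s hr)]
    conv_rhs => rw [← h1]
    rw [Category.assoc, Sigma.ι_desc]
  rw [← h2, h1]

/-- Finite étale covers of a connected scheme form a Galois category. -/
theorem galoisCategory (X : Scheme.{u}) [ConnectedSpace X] : GaloisCategory (FEt.Cat X) := by
  obtain ⟨x⟩ : Nonempty X := inferInstance
  obtain ⟨Ω, _, _, ξ, -⟩ := Groth.Agent.Pi1A.ConnFibres.exists_geometric_point X x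
  exact { toPreGaloisCategory := inferInstance, hasFiberFunctor := ⟨fiberF ξ, ⟨inferInstance⟩⟩ }

/-- A finite étale cover `T` of a connected scheme `Y` is split by a connected finite étale cover
of `Y` (which can be taken to be Galois). -/
theorem exists_split {Y : Scheme.{u}} [ConnectedSpace Y] (T : FEt.Cat Y) :
    ∃ Y₁ : FEt.Cat Y, (∃ _ : GaloisCategory (FEt.Cat Y), PreGaloisCategory.IsGalois Y₁) ∧
      ConnectedSpace Y₁.left ∧ Surjective Y₁.hom ∧ Pi1.IsSplit ((FEt.restrict Y₁.hom).obj T) := by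
  have hGC := galoisCategory Y
  obtain ⟨y⟩ : Nonempty Y := inferInstance
  obtain ⟨Ω, _, _, ξ, -⟩ := Groth.Agent.Pi1A.ConnFibres.exists_geometric_point Y y
  obtain ⟨A, a, hgal, hbij⟩ := PreGaloisCategory.exists_galois_representative (fiberF ξ) T
  have hconn : ConnectedSpace A.left := connectedSpace_left A
  have hsurj : Surjective A.hom := surjective_hom A
  refine ⟨A, ⟨hGC, hgal⟩, hconn, hsurj, ?_⟩
  have hfin : Finite (A ⟶ T) := Finite.of_injective _ hbij.1
  let α : Spec (CommRingCat.of Ω) ⟶ A.left := a.1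
  have hα : α ≫ A.hom = ξ := a.2
  let T' : FEt.Cat A.left := (FEt.restrict A.hom).obj T
  let sec (f : A ⟶ T) : A.left ⟶ T'.left :=
    pullback.lift f.left (𝟙 _) (by
      rw [Category.id_comp]
      exact MorphismProperty.Over.w f)
  have hsec₁ (f : A ⟶ T) : sec f ≫ pullback.fst T.hom A.hom = f.left := pullback.lift_fst _ _ _
  have hsec₂ (f : A ⟶ T) : sec f ≫ T'.hom = 𝟙 _ := pullback.lift_snd _ _ _
  let φ : trivialObj A.left (A ⟶ T) ⟶ T' :=
    MorphismProperty.Over.homMk (Sigma.desc sec) (by
      apply Sigma.hom_ext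
      intro f
      change Sigma.ι _ f ≫ Sigma.desc sec ≫ T'.hom = Sigma.ι _ f ≫ Sigma.desc (fun _ => 𝟙 _)
      rw [Sigma.ι_desc_assoc, Sigma.ι_desc, hsec₂])
  have hφ : φ.left = Sigma.desc sec := rfl
  have hpt (f : A ⟶ T) : (α ≫ Sigma.ι (fun _ : (A ⟶ T) => A.left) f) ≫ Sigma.desc sec = α ≫ sec f := by
    rw [Category.assoc, Sigma.ι_desc]
  have hpt' (f : A ⟶ T) : (α ≫ Sigma.ι (fun _ : (A ⟶ T) => A.left) f) ≫
      Sigma.desc (fun _ : (A ⟶ T) => 𝟙 A.left) = α := by
    rw [Category.assoc, Sigma.ι_desc, Category.comp_id]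
  have hcond : pullback.fst T.hom A.hom ≫ T.hom = T'.hom ≫ A.hom := pullback.condition
  have hiso : IsIso φ.left := by
    apply Groth.Agent.Pi1B.FEtGalois.isIso_of_bijective_fibre α φ
    constructor
    · rintro ⟨s, hs⟩ ⟨s', hs'⟩ hss
      obtain ⟨f, hf⟩ := exists_sheet α s hs
      obtain ⟨f', hf'⟩ := exists_sheet α s' hs'
      have h1 : s ≫ φ.left = s' ≫ φ.left := congrArg Subtype.val hss
      have h2 : α ≫ sec f = α ≫ sec f' :=
        (hpt f).symm.trans (((congrArg (· ≫ Sigma.desc sec) hf).symm.trans h1).trans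
          ((congrArg (· ≫ Sigma.desc sec) hf').trans (hpt f')))
      have h3 : α ≫ f.left = α ≫ f'.left := by
        rw [← hsec₁ f, ← hsec₁ f', ← Category.assoc, h2, Category.assoc]
      have h4 : f = f' := hbij.1 (Subtype.ext h3)
      apply Subtype.ext
      change s = s'
      rw [hf, hf', h4]
    · rintro ⟨t, ht⟩
      have h1 : (t ≫ pullback.fst T.hom A.hom) ≫ T.hom = ξ :=
        (Category.assoc _ _ _).trans ((congrArg (t ≫ ·) hcond).trans
          ((Category.assoc _ _ _).symm.trans ((congrArg (· ≫ A.hom) ht).trans hα)))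
      obtain ⟨f, hf⟩ := hbij.2 ⟨t ≫ pullback.fst T.hom A.hom, h1⟩
      have hf' : α ≫ f.left = t ≫ pullback.fst T.hom A.hom := congrArg Subtype.val hf
      refine ⟨⟨α ≫ Sigma.ι (fun _ : (A ⟶ T) => A.left) f, ?_⟩, ?_⟩
      · exact hpt' f
      · apply Subtype.ext
        refine (hpt f).trans ?_
        apply pullback.hom_ext
        · exact (Category.assoc _ _ _).trans ((congrArg (α ≫ ·) (hsec₁ f)).trans hf')
        · exact (Category.assoc _ _ _).trans
            (((congrArg (α ≫ ·) (hsec₂ f)).trans (Category.comp_id _)).trans ht.symm)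
  refine ⟨(A ⟶ T), hfin, (asIso φ.left).symm, fun f => ?_⟩
  change Sigma.ι _ f ≫ φ.left ≫ T'.hom = 𝟙 _
  rw [hφ, Sigma.ι_desc_assoc]
  exact hsec₂ f

end Groth.Agent.Pi1.H384.SplitCover
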