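import Groth.Agent.S0240
import Groth.Agent.S0242
import Groth.Agent.S0289
import Groth.Agent.Pi1A.FEtAffine
import Groth.Agent.Pi1B.PurInsepSpec
import Mathlib.FieldTheory.IsAlgClosed.AlgebraicClosure
import Mathlib.FieldTheory.PurelyInseparable.Basic

/-!
# Finite étale covers of proper schemes over strictly henselian local rings and geometric fibres
-/

set_option autoImplicit false

universe u

open CategoryTheory CategoryTheory.Limits AlgebraicGeometry
open Groth.Agent.Pi1A.FEtAffine

namespace Groth.Agent.Pi1.H384.StrictEquiv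

/-- Restricting twice. -/
noncomputable def R2 {X Y Z : Scheme.{u}} {f : X ⟶ Y} {g : Y ⟶ Z} {h : X ⟶ Z} (e : f ≫ g = h)
    (T : FEt.Cat Z) : (FEt.restrict h).obj T ≅ (FEt.restrict f).obj ((FEt.restrict g).obj T) :=
  (restrictCongr e.symm).app T ≪≫ (restrictComp f g).app T

/-- Equivalences and pullback squares. -/
theorem isEquivalence_of_isPullback {X Y X' Y' : Scheme.{u}} {g' : X' ⟶ X} {f' : X' ⟶ Y'}
    {f : X ⟶ Y} {g : Y' ⟶ Y} (h : IsPullback g' f' f g)
    (H : (FEt.restrict (pullback.fst f g)).IsEquivalence) : (FEt.restrict g').IsEquivalence := by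
  have h1 : h.isoPullback.hom ≫ pullback.fst f g = g' := h.isoPullback_hom_fst
  have := restrict_isEquivalence_comp h.isoPullback.hom (pullback.fst f g)
  rwa [h1] at this

/-- Equivalences after a composition of base changes. -/
theorem isEquivalence_fst_comp {X Y Y' Y'' : Scheme.{u}} (f : X ⟶ Y) (g : Y' ⟶ Y) (g' : Y'' ⟶ Y')
    (h1 : (FEt.restrict (pullback.fst f g)).IsEquivalence)
    (h2 : (FEt.restrict (pullback.fst (pullback.snd f g) g')).IsEquivalence) :
    (FEt.restrict (pullback.fst f (g' ≫ g))).IsEquivalence := by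
  have h3 : (pullbackLeftPullbackSndIso f g g').inv ≫ pullback.fst _ _ ≫ pullback.fst _ _ =
      pullback.fst f (g' ≫ g) := pullbackLeftPullbackSndIso_inv_fst f g g'
  rw [← h3]
  have h4 := restrict_isEquivalence_comp (pullback.fst (pullback.snd f g) g') (pullback.fst f g)
  exact restrict_isEquivalence_comp _ _

/-- Any morphism between spectra of algebraically closed fields. -/
theorem algClosed_isEquivalence {K K' : Type u} [Field K] [Field K'] [IsAlgClosed K]
    [IsAlgClosed K'] (s : Spec (CommRingCat.of K') ⟶ Spec (CommRingCat.of K)) {X : Scheme.{u}}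
    (f : X ⟶ Spec (CommRingCat.of K)) [IsProper f] :
    (FEt.restrict (pullback.fst f s)).IsEquivalence := by
  obtain ⟨φ, rfl⟩ := Spec.map_surjective s
  let _ : Algebra K K' := φ.hom.toAlgebra
  exact Groth.Agent.S0242.result K K' f

/-- Separably closed fields and their algebraic closures. -/
theorem sepClosed_isEquivalence (κ : Type u) [Field κ] [IsSepClosed κ] {X : Scheme.{u}}
    (f : X ⟶ Spec (CommRingCat.of κ)) :
    (FEt.restrict (pullback.fst f
      (Spec.map (CommRingCat.ofHom (algebraMap κ (AlgebraicClosure κ)))))).IsEquivalence := by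
  have h1 := Groth.Agent.Pi1B.PurInsepSpec.universallyInjective_specMap κ (AlgebraicClosure κ)
  have h2 := Groth.Agent.Pi1B.PurInsepSpec.isIntegralHom_specMap κ (AlgebraicClosure κ)
  have h3 := Groth.Agent.Pi1B.PurInsepSpec.surjective_specMap κ (AlgebraicClosure κ)
  have h4 : UniversallyInjective (pullback.fst f
      (Spec.map (CommRingCat.ofHom (algebraMap κ (AlgebraicClosure κ))))) :=
    MorphismProperty.pullback_fst _ _ h1
  exact Groth.Agent.S0289.result _

/-- Restriction to a geometric closed fibre over a strictly henselian local ring. -/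
theorem strictLocal_isEquivalence (C : Type u) [CommRing C] [HenselianLocalRing C]
    [IsSepClosed (IsLocalRing.ResidueField C)] {K : Type u} [Field K] [IsAlgClosed K]
    (s : Spec (CommRingCat.of K) ⟶ Spec (CommRingCat.of C))
    (hs : s (IsLocalRing.closedPoint K) = IsLocalRing.closedPoint C) {X : Scheme.{u}}
    (f : X ⟶ Spec (CommRingCat.of C)) [IsProper f] :
    (FEt.restrict (pullback.fst f s)).IsEquivalence := by
  obtain ⟨φ, rfl⟩ := Spec.map_surjective s
  let κ := IsLocalRing.ResidueField C
  have hloc : IsLocalHom φ.hom := by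
    rw [IsLocalRing.isLocalHom_iff_comap_closedPoint]
    exact hs
  let ψ : κ →+* K := IsLocalRing.ResidueField.lift φ.hom
  have hψ : ψ.comp (IsLocalRing.residue C) = φ.hom := IsLocalRing.ResidueField.lift_comp_residue φ.hom
  let κ' := AlgebraicClosure κ
  let _ : Algebra κ K := ψ.toAlgebra
  let χ : κ' →ₐ[κ] K := IsAlgClosed.lift
  have hχ : (χ : κ' →+* K).comp (algebraMap κ κ') = ψ := χ.comp_algebraMap
  have hfac : Spec.map φ = (Spec.map (CommRingCat.ofHom (χ : κ' →+* K)) ≫
      Spec.map (CommRingCat.ofHom (algebraMap κ κ'))) ≫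
        Spec.map (CommRingCat.ofHom (IsLocalRing.residue C)) := by
    rw [← Spec.map_comp, ← Spec.map_comp, ← CommRingCat.ofHom_comp, ← CommRingCat.ofHom_comp]
    congr 1
    ext x
    have h1 := congr($(hχ) (IsLocalRing.residue C x))
    have h2 := congr($(hψ) x)
    exact h2.symm.trans h1.symm
  rw [hfac]
  apply isEquivalence_fst_comp
  · exact Groth.Agent.S0240.result C f
  · apply isEquivalence_fst_comp
    · exact sepClosed_isEquivalence κ _
    · exact algClosed_isEquivalence _ _

end Groth.Agent.Pi1.H384.StrictEquiv
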